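import Groth.Agent.Dcoh.FinLocFree
import Groth.Agent.PerfA.Restrict
import Groth.Agent.CurvesB.SmoothCurveSerre
import Groth.Prelude.Def_CohCmp
import Mathlib.AlgebraicGeometry.Noetherian

/-!
# Auxiliary lemmas for the corollaries of cohomology and base change (fibres, restriction)
-/

set_option autoImplicit false
universe u
open AlgebraicGeometry CategoryTheory Scheme.Modules

namespace K87.FibCor

lemma isPullback_fibre {X S : Scheme.{u}} (f : X ⟶ S) (s : S) :
    IsPullback (f.fiberι s) (f.fiberToSpecResidueField s) f (S.fromSpecResidueField s) :=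
  IsPullback.of_hasPullback _ _

lemma isFinLocFree_of_restrict {X : Scheme.{u}} {M : X.Modules}
    (h : ∀ x : X, ∃ U : X.Opens, x ∈ U ∧ FlatMod.IsFinLocFree (M.restrict U.ι)) : FlatMod.IsFinLocFree M := by
  refine Groth.Agent.Dcoh.FinLocFree.isFinLocFree_of_local fun x => ?_
  obtain ⟨U, hx, hU⟩ := h x
  exact ⟨U, U.ι, inferInstance, by rwa [Scheme.Opens.opensRange_ι], hU⟩

lemma noetherianSpace_fibre {X S : Scheme.{u}} (f : X ⟶ S) [LocallyOfFiniteType f] [QuasiCompact f] (s : S) :
    TopologicalSpace.NoetherianSpace (f.fiber s) := by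
  have : LocallyOfFiniteType (f.fiberToSpecResidueField s) :=
    MorphismProperty.of_isPullback (isPullback_fibre f s) inferInstance
  have : QuasiCompact (f.fiberToSpecResidueField s) :=
    MorphismProperty.of_isPullback (isPullback_fibre f s) inferInstance
  have h1 : IsLocallyNoetherian (f.fiber s) := LocallyOfFiniteType.isLocallyNoetherian (f.fiberToSpecResidueField s)
  have h2 : CompactSpace (f.fiber s) := by
    have := QuasiCompact.compactSpace_of_compactSpace (f.fiberToSpecResidueField s)
    exact this
  have : AlgebraicGeometry.IsNoetherian (f.fiber s) := {}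
  infer_instance

lemma isZero_restrict_le {X : Scheme.{u}} {M : X.Modules} {V U : X.Opens} (h : V ≤ U)
    (hz : Limits.IsZero (M.restrict U.ι)) : Limits.IsZero (M.restrict V.ι) := by
  have e : M.restrict V.ι ≅ (M.restrict U.ι).restrict (X.homOfLE h) :=
    (Scheme.Modules.restrictFunctorCongr (X.homOfLE_ι h).symm).app M ≪≫
      (Scheme.Modules.restrictFunctorComp (X.homOfLE h) U.ι).app M
  refine Limits.IsZero.of_iso ?_ e
  exact (Scheme.Modules.restrictFunctor (X.homOfLE h)).map_isZero hz

lemma isFinLocFree_restrict_le {X : Scheme.{u}} {M : X.Modules} {V U : X.Opens} (h : V ≤ U)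
    (hz : FlatMod.IsFinLocFree (M.restrict U.ι)) : FlatMod.IsFinLocFree (M.restrict V.ι) := by
  have e : M.restrict V.ι ≅ (M.restrict U.ι).restrict (X.homOfLE h) :=
    (Scheme.Modules.restrictFunctorCongr (X.homOfLE_ι h).symm).app M ≪≫
      (Scheme.Modules.restrictFunctorComp (X.homOfLE h) U.ι).app M
  exact Groth.Agent.Dcoh.FinLocFree.isFinLocFree_of_iso e.symm
    (Groth.Agent.Dcoh.FinLocFree.isFinLocFree_restrict hz _)

end K87.FibCor
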