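import Groth.Agent.PicF.K248.UGen
import Mathlib.LinearAlgebra.Matrix.NonsingularInverse

/-!
# Universal bases of direct images

For `f : X ⟶ S` and `E` on `X`: `UG f E r g` says that Zariski locally on the source of `g : T ⟶ S` the functor
`T' ↦ Γ(X_{T'}, E_{T'})` on affine `T' ⟶ T` is free of rank `r` on `r` sections over `X_T`
(`K248.UGen` is the case `r = 1`).
* `exists_ug_locus`: this locus is represented by an immersion locally of finite presentation.
-/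

set_option autoImplicit false
set_option linter.style.haveILetI false
universe u
open CategoryTheory CategoryTheory.Limits AlgebraicGeometry TopologicalSpace Opposite

namespace K87.UBas

open Groth.Agent.Flat2F.SecBasis Groth.Agent.Flat2F.BasAlg Groth.Agent.Flat2F.BCSec
open Groth.Agent.Flat2F.LocBas Groth.Agent.Flat2F.ImmGlue Groth.Agent.Flat2F.DescLocal
open Groth.Agent.Flat2F.RepH0Desc Groth.Agent.VarietyB.PullSec
open K248.UGen (tr_tr hom_inv_app)

section Def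

variable {X S : Scheme.{u}} (f : X ⟶ S) (E : X.Modules)

/-- The sections `s` of `E_{T₀}` are a universal basis. -/
def UGen {r : ℕ} {T₀ X₀ : Scheme.{u}} (g₀ : T₀ ⟶ S) (a₀ : X₀ ⟶ X) (p₀ : X₀ ⟶ T₀)
    (s : Fin r → Γ((Scheme.Modules.pullback a₀).obj E, ⊤)) : Prop :=
  ∀ (C : CommRingCat.{u}) (u : Spec C ⟶ T₀) (X' : Scheme.{u}) (a' : X' ⟶ X) (p' : X' ⟶ Spec C)
    (_ : IsPullback a' p' f (u ≫ g₀)) (k : X' ⟶ X₀) (hk : k ≫ a₀ = a') (_ : k ≫ p₀ = p' ≫ u),
    Function.Bijective (fun c : Fin r → C =>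
      ∑ i, scal p' (c i) • tr k a₀ a' hk E (U := ⊤) (V := ⊤) le_top (s i))

/-- There is a universal basis over all of `T₀`. -/
def G (r : ℕ) {T₀ : Scheme.{u}} (g₀ : T₀ ⟶ S) : Prop :=
  ∃ (X₀ : Scheme.{u}) (a₀ : X₀ ⟶ X) (p₀ : X₀ ⟶ T₀) (_ : IsPullback a₀ p₀ f g₀)
    (s : Fin r → Γ((Scheme.Modules.pullback a₀).obj E, ⊤)), UGen f E g₀ a₀ p₀ s

/-- There are universal bases locally on `T`. -/
def UG (r : ℕ) ⦃T : Scheme.{u}⦄ (g : T ⟶ S) : Prop :=
  ∀ t : T, ∃ (T₀ : Scheme.{u}) (h : T₀ ⟶ T) (_ : IsOpenImmersion h), t ∈ Set.range h.base ∧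
    G f E r (h ≫ g)

variable {f E} {r : ℕ}

theorem UGen.precomp {T₀ X₀ T₁ X₁ : Scheme.{u}} {g₀ : T₀ ⟶ S} {a₀ : X₀ ⟶ X} {p₀ : X₀ ⟶ T₀}
    {s : Fin r → Γ((Scheme.Modules.pullback a₀).obj E, ⊤)} (hs : UGen f E g₀ a₀ p₀ s) (h : T₁ ⟶ T₀)
    (k : X₁ ⟶ X₀) (a₁ : X₁ ⟶ X) (p₁ : X₁ ⟶ T₁) (hk : k ≫ a₀ = a₁) (hk' : k ≫ p₀ = p₁ ≫ h) :
    UGen f E (h ≫ g₀) a₁ p₁ (fun i => tr k a₀ a₁ hk E (U := ⊤) (V := ⊤) le_top (s i)) := by
  intro C u X' a' p' H' k' hk₁ hk₂
  have h1 := hs C (u ≫ h) X' a' p' (by rwa [Category.assoc]) (k' ≫ k)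
    (by rw [Category.assoc, hk, hk₁]) (by rw [Category.assoc, hk', reassoc_of% hk₂])
  have h2 := fun i => tr_tr k' k a₀ a₁ a' hk hk₁ (by rw [Category.assoc, hk, hk₁]) E (U := ⊤) (V := ⊤) (T := ⊤)
    le_top le_top le_top (s i)
  simp only [h2]
  exact h1

theorem G.precomp {T₀ T₁ : Scheme.{u}} {g₀ : T₀ ⟶ S} (hG : G f E r g₀) (h : T₁ ⟶ T₀) :
    G f E r (h ≫ g₀) := by
  obtain ⟨X₀, a₀, p₀, H₀, s, hs⟩ := hG
  have H₁ := IsPullback.of_hasPullback f (h ≫ g₀)
  let k : pullback f (h ≫ g₀) ⟶ X₀ := H₀.lift (pullback.fst _ _) (pullback.snd _ _ ≫ h)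
    (by rw [Category.assoc]; exact H₁.w)
  exact ⟨_, _, _, H₁, _, hs.precomp h k _ _ (H₀.lift_fst _ _ _) (H₀.lift_snd _ _ _)⟩

theorem UG.precomp ⦃T T' : Scheme.{u}⦄ (h : T' ⟶ T) (g : T ⟶ S) (hg : UG f E r g) :
    UG f E r (h ≫ g) := by
  intro t'
  obtain ⟨T₀, j, hj, ⟨t₀, ht₀⟩, hG⟩ := hg (h t')
  obtain ⟨z, hz1, hz2⟩ := Scheme.Pullback.exists_preimage_pullback (f := h) (g := j) t' t₀ ht₀.symm
  refine ⟨pullback h j, pullback.fst h j, inferInstance, ⟨z, hz1⟩, ?_⟩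
  have h1 := hG.precomp (pullback.snd h j)
  rwa [← Category.assoc, ← pullback.condition, Category.assoc] at h1

theorem UG.of_local ⦃T : Scheme.{u}⦄ (g : T ⟶ S) (h : ∀ t : T, ∃ (T' : Scheme.{u}) (h : T' ⟶ T)
      (_ : IsOpenImmersion h), t ∈ Set.range h.base ∧ UG f E r (h ≫ g)) : UG f E r g := by
  intro t
  obtain ⟨T', j, hj, ⟨t', ht'⟩, hg⟩ := h t
  obtain ⟨T₀, j₀, hj₀, ⟨t₀, ht₀⟩, hG⟩ := hg t'
  refine ⟨T₀, j₀ ≫ j, inferInstance, ⟨t₀, ?_⟩, by rwa [Category.assoc]⟩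
  rw [← ht', ← ht₀]
  rfl

theorem UG.of_G {T : Scheme.{u}} {g : T ⟶ S} (h : G f E r g) : UG f E r g := fun t =>
  ⟨T, 𝟙 T, inferInstance, ⟨t, rfl⟩, by rwa [Category.id_comp]⟩

/-- Over the spectrum of a field, `UG` gives a universal basis. -/
theorem UG.toG_of_field {K : Type u} [Field K] {g : Spec (CommRingCat.of K) ⟶ S} (hU : UG f E r g) :
    G f E r g := by
  obtain ⟨T₀, h, hh, hq, hG⟩ := hU (⊥ : PrimeSpectrum K)
  have hs : Surjective h := ⟨fun y => by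
    have : y = (⊥ : PrimeSpectrum K) := Subsingleton.elim (α := PrimeSpectrum K) _ _
    rw [this]; exact hq⟩
  have hi : IsIso h := (isIso_iff_isOpenImmersion_and_epi_base h).2
    ⟨hh, (TopCat.epi_iff_surjective _).2 h.surjective⟩
  have h1 := hG.precomp (inv h)
  rwa [IsIso.inv_hom_id_assoc] at h1

end Def

section BaseChange

variable {X S X₁ S₁ : Scheme.{u}} {f : X ⟶ S} {E : X.Modules} {f₁ : X₁ ⟶ S₁} {b : X₁ ⟶ X}
  {j : S₁ ⟶ S} {r : ℕ}

theorem ugen_baseChange (H : IsPullback b f₁ f j) {T₀ X₀ : Scheme.{u}} (g₀ : T₀ ⟶ S₁)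
    (a₁ : X₀ ⟶ X₁) (a₀ : X₀ ⟶ X) (ha : a₁ ≫ b = a₀) (p₀ : X₀ ⟶ T₀) (w : a₁ ≫ f₁ = p₀ ≫ g₀)
    (s : Fin r → Γ((Scheme.Modules.pullback a₁).obj ((Scheme.Modules.pullback b).obj E), ⊤)) :
    UGen f₁ ((Scheme.Modules.pullback b).obj E) g₀ a₁ p₀ s ↔
      UGen f E (g₀ ≫ j) a₀ p₀ (fun i => (cmp a₁ b a₀ ha E).hom.app ⊤ (s i)) := by
  have key : ∀ {C : CommRingCat.{u}} {X' : Scheme.{u}} (a'₁ : X' ⟶ X₁) (a' : X' ⟶ X)
      (p' : X' ⟶ Spec C) (k : X' ⟶ X₀) (hk₁ : k ≫ a₁ = a'₁) (hk : k ≫ a₀ = a') (hb : a'₁ ≫ b = a'),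
      Function.Bijective (fun c : Fin r → C => ∑ i, scal p' (c i) • tr k a₁ a'₁ hk₁
        ((Scheme.Modules.pullback b).obj E) (U := ⊤) (V := ⊤) le_top (s i)) ↔
      Function.Bijective (fun c : Fin r → C => ∑ i, scal p' (c i) • tr k a₀ a' hk E (U := ⊤) (V := ⊤)
        le_top ((cmp a₁ b a₀ ha E).hom.app ⊤ (s i))) := by
    intro C X' a'₁ a' p' k hk₁ hk hb
    rw [← Function.Bijective.of_comp_iff' (app_bijective (cmp a'₁ b a' hb E) ⊤)]
    refine iff_of_eq (congrArg Function.Bijective (funext fun c => ?_))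
    rw [Function.comp_apply, map_sum]
    refine Finset.sum_congr rfl fun i _ => ?_
    rw [Scheme.Modules.Hom.app_smul, cmp_tr k a₁ b E hk₁ ha hb hk le_top (s i)]
  constructor
  · intro hs C u X' a' p' H' k hk hk'
    have H'' : IsPullback a' p' f ((u ≫ g₀) ≫ j) := by rwa [Category.assoc]
    have h1 := hs C u X' (k ≫ a₁) p' (IsPullback.of_right (by
      rw [Category.assoc, ha, hk]; exact H'')
        (by rw [Category.assoc, w, reassoc_of% hk']) H) k rfl hk'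
    exact (key (k ≫ a₁) a' p' k rfl hk (by rw [Category.assoc, ha, hk])).1 h1
  · intro hs C u X' a'₁ p' H' k hk hk'
    have h1 := hs C u X' (a'₁ ≫ b) p' (by rw [← Category.assoc]; exact H'.paste_horiz H) k
      (by rw [← hk, Category.assoc, ha]) hk'
    exact (key a'₁ _ p' k hk _ rfl).2 h1

theorem g_baseChange (H : IsPullback b f₁ f j) {T₀ : Scheme.{u}} (g₀ : T₀ ⟶ S₁) :
    G f₁ ((Scheme.Modules.pullback b).obj E) r g₀ ↔ G f E r (g₀ ≫ j) := by
  constructor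
  · rintro ⟨X₀, a₁, p₀, H₁, s, hs⟩
    exact ⟨X₀, a₁ ≫ b, p₀, H₁.paste_horiz H, _,
      (ugen_baseChange H g₀ a₁ (a₁ ≫ b) rfl p₀ H₁.w s).1 hs⟩
  · rintro ⟨X₀, a₀, p₀, H₀, s, hs⟩
    let a₁ : X₀ ⟶ X₁ := H.lift a₀ (p₀ ≫ g₀) (by rw [H₀.w, Category.assoc])
    have ha : a₁ ≫ b = a₀ := H.lift_fst _ _ _
    have hw : a₁ ≫ f₁ = p₀ ≫ g₀ := H.lift_snd _ _ _
    refine ⟨X₀, a₁, p₀, IsPullback.of_right (by rwa [ha]) hw H,
      fun i => (cmp a₁ b a₀ ha E).inv.app ⊤ (s i), (ugen_baseChange H g₀ a₁ a₀ ha p₀ hw _).2 ?_⟩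
    simpa only [hom_inv_app] using hs

theorem ug_baseChange (H : IsPullback b f₁ f j) {T : Scheme.{u}} (g : T ⟶ S₁) :
    UG f₁ ((Scheme.Modules.pullback b).obj E) r g ↔ UG f E r (g ≫ j) := by
  constructor
  · intro h t
    obtain ⟨T₀, i, hi, ht, hG⟩ := h t
    exact ⟨T₀, i, hi, ht, by rw [← Category.assoc]; exact (g_baseChange H _).1 hG⟩
  · intro h t
    obtain ⟨T₀, i, hi, ht, hG⟩ := h t
    refine ⟨T₀, i, hi, ht, (g_baseChange H _).2 ?_⟩
    rwa [Category.assoc]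

end BaseChange

section Affine

variable {A : CommRingCat.{u}} {X : Scheme.{u}} {f : X ⟶ Spec A} {E : X.Modules} (R : RepH0 f E) {r : ℕ}

/-- A dual basis gives a universal basis. -/
theorem ugen_of_dual {B : CommRingCat.{u}} (φ₀ : A ⟶ B) (m : Fin r → R.M)
    (hm : Submodule.span A (Set.range m) = ⊤) (β : Fin r → (R.M →ₛₗ[φ₀.hom] B))
    (hβ : ∀ i j, β i (m j) = if i = j then 1 else 0) {X₀ : Scheme.{u}} {a₀ : X₀ ⟶ X} {p₀ : X₀ ⟶ Spec B}
    (H₀ : IsPullback a₀ p₀ f (Spec.map φ₀)) :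
    UGen f E (Spec.map φ₀) a₀ p₀ (fun i => R.θ H₀ (β i)) := by
  intro C u X' a' p' H' k hk hk'
  obtain ⟨ψ, rfl⟩ : ∃ ψ : B ⟶ C, Spec.map ψ = u := ⟨_, Spec.map_preimage _⟩
  have H'' : IsPullback a' p' f (Spec.map (φ₀ ≫ ψ)) := by rw [Spec.map_comp]; exact H'
  let γ : Fin r → (R.M →ₛₗ[(φ₀ ≫ ψ).hom] C) := fun i =>
    { toFun := fun x => ψ (β i x)
      map_add' := fun x y => by rw [map_add, map_add]
      map_smul' := fun r x => by rw [map_smulₛₗ, smul_eq_mul, map_mul]; rfl }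
  have hγ0 : ∀ i j, γ i (m j) = if i = j then 1 else 0 := by
    intro i j
    change ψ (β i (m j)) = _
    rw [hβ]
    split_ifs <;> simp
  have hγ : ∀ i, R.θ H'' (γ i) = tr k a₀ a' hk E (U := ⊤) (V := ⊤) le_top (R.θ H₀ (β i)) := fun i =>
    R.nat H₀ ψ H'' k hk hk' (β i) (γ i) (fun _ => rfl)
  simp only [← hγ]
  have h1 : (fun c : Fin r → C => ∑ i, scal p' (c i) • R.θ H'' (γ i)) =
      (fun α => R.θ H'' α) ∘ fun c : Fin r → C => ∑ i, c i • γ i := by
    funext c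
    exact (theta_sum R H'' c γ).symm
  rw [h1]
  have hev : ∀ (c : Fin r → C) (j : Fin r), (∑ i, c i • γ i) (m j) = c j := by
    intro c j
    simp [LinearMap.sum_apply, LinearMap.smul_apply, hγ0]
  refine (R.bij H'').comp ⟨fun c c' hcc => ?_, fun α => ⟨fun j => α (m j), ?_⟩⟩
  · funext j
    rw [← hev c j, ← hev c' j]
    exact congrArg (fun δ : R.M →ₛₗ[(φ₀ ≫ ψ).hom] C => δ (m j)) hcc
  · refine semilin_ext R hm fun j => ?_
    exact hev _ j

/-- If `R.M` is generated by `r` elements with relation ideal `I`, then `UG` is represented by `V(I)`. -/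
theorem ug_iff_of_generator (m : Fin r → R.M) (hm : Submodule.span A (Set.range m) = ⊤)
    (T : Scheme.{u}) (t : T ⟶ Spec A) :
    UG f E r t ↔ ∃ l, l ≫ zι (relIdeal (A := A) m) = t := by
  constructor
  · intro hU
    refine factors_of_local _ _ fun x => ?_
    obtain ⟨T₀, h, hh, ⟨t₀, ht₀⟩, X₀, a₀, p₀, H₀, s, hs⟩ := hU x
    obtain ⟨C, u, hu, y, hy⟩ : ∃ (C : CommRingCat.{u}) (u : Spec C ⟶ T₀) (_ : IsOpenImmersion u)
        (y : Spec C), u.base y = t₀ := by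
      obtain ⟨y, hy⟩ := T₀.affineOpenCover.covers t₀
      exact ⟨_, T₀.affineOpenCover.f _, inferInstance, y, hy⟩
    refine ⟨_, u ≫ h, inferInstance, ⟨y, ?_⟩, ?_⟩
    · rw [← ht₀, ← hy]
      rfl
    obtain ⟨τ, hτ⟩ : ∃ τ : A ⟶ C, Spec.map τ = u ≫ h ≫ t := ⟨_, Spec.map_preimage _⟩
    have H := IsPullback.of_hasPullback f (Spec.map τ)
    let k : pullback f (Spec.map τ) ⟶ X₀ := H₀.lift (pullback.fst _ _) (pullback.snd _ _ ≫ u)
      (by rw [Category.assoc, H.w, hτ])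
    have hk : k ≫ a₀ = pullback.fst _ _ := H₀.lift_fst _ _ _
    have hk' : k ≫ p₀ = pullback.snd _ _ ≫ u := H₀.lift_snd _ _ _
    have hα0 : ∀ i, ∃ α : R.M →ₛₗ[τ.hom] C, R.θ H α =
        tr k a₀ _ hk E (U := ⊤) (V := ⊤) le_top (s i) := fun i => (R.bij H).2 _
    choose α hα using hα0
    let P : Matrix (Fin r) (Fin r) C := Matrix.of fun i j => α i (m j)
    have ha : IsUnit P.det := by
      by_contra hdet
      obtain ⟨𝔪, h𝔪, hmem⟩ := exists_max_ideal_of_mem_nonunits hdet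
      let D : CommRingCat.{u} := CommRingCat.of (C ⧸ 𝔪)
      let ψ : C ⟶ D := CommRingCat.ofHom (Ideal.Quotient.mk 𝔪)
      letI : Field D := Ideal.Quotient.field 𝔪
      have hψ : ψ.hom P.det = 0 := Ideal.Quotient.eq_zero_iff_mem.mpr hmem
      rw [RingHom.map_det] at hψ
      obtain ⟨v, hv0, hv⟩ := Matrix.exists_vecMul_eq_zero_iff.mpr hψ
      have H'' := IsPullback.of_hasPullback f (Spec.map (τ ≫ ψ))
      let k' : pullback f (Spec.map (τ ≫ ψ)) ⟶ pullback f (Spec.map τ) :=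
        H.lift (pullback.fst _ _) (pullback.snd _ _ ≫ Spec.map ψ)
          (by rw [Category.assoc, ← Spec.map_comp, H''.w])
      have hk₁ : k' ≫ pullback.fst _ _ = pullback.fst _ _ := H.lift_fst _ _ _
      have hk₂ : k' ≫ pullback.snd _ _ = pullback.snd _ _ ≫ Spec.map ψ := H.lift_snd _ _ _
      have hbij := hs D (Spec.map ψ ≫ u) _ _ _ (by
        have : (Spec.map ψ ≫ u) ≫ h ≫ t = Spec.map (τ ≫ ψ) := by
          rw [Category.assoc, ← hτ, ← Spec.map_comp]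
        rw [this]
        exact H'') (k' ≫ k) (by rw [Category.assoc, hk, hk₁])
        (by rw [Category.assoc, hk', reassoc_of% hk₂])
      let β : Fin r → (R.M →ₛₗ[(τ ≫ ψ).hom] D) := fun i =>
        { toFun := fun x => ψ (α i x)
          map_add' := fun x y => by rw [map_add, map_add]
          map_smul' := fun r x => by rw [map_smulₛₗ, smul_eq_mul, map_mul]; rfl }
      have hβ : ∀ i, R.θ H'' (β i) = tr (k' ≫ k) a₀ _ (by rw [Category.assoc, hk, hk₁]) E
          (U := ⊤) (V := ⊤) le_top (s i) := by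
        intro i
        rw [R.nat H ψ H'' k' hk₁ hk₂ (α i) (β i) (fun _ => rfl), hα,
          tr_tr k' k a₀ _ _ hk hk₁ (by rw [Category.assoc, hk, hk₁]) E le_top le_top le_top]
      refine hv0 (hbij.1 ?_)
      dsimp only
      simp only [← hβ]
      rw [← theta_sum R H'', ← theta_sum R H'']
      congr 1
      refine semilin_ext R hm fun j => ?_
      have h1 := congrFun hv j
      simp only [Matrix.vecMul, dotProduct] at h1
      simp only [LinearMap.sum_apply, LinearMap.smul_apply, Pi.zero_apply, zero_smul,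
        Finset.sum_const_zero]
      exact h1
    obtain ⟨l, hl⟩ := exists_factor_spec (relIdeal (A := A) m) τ (by
      have h1 : relIdeal (A := A) m ≤ RingHom.ker τ.hom := by
        refine relIdeal_le fun c hc i => ?_
        have hP : IsUnit P := (Matrix.isUnit_iff_isUnit_det P).mpr ha
        have h3 : P.mulVec (fun j => τ (c j)) = 0 := by
          funext i
          have h2 := congrArg (α i) hc
          rw [map_sum, map_zero] at h2
          simp only [map_smulₛₗ, smul_eq_mul] at h2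
          rw [Matrix.mulVec, dotProduct, Pi.zero_apply, ← h2]
          refine Finset.sum_congr rfl fun j _ => ?_
          change α i (m j) * _ = _ * α i (m j)
          rw [mul_comm]
        have h4 := Matrix.mulVec_injective_of_isUnit hP (h3.trans (Matrix.mulVec_zero P).symm)
        rw [RingHom.mem_ker]
        exact congrFun h4 i
      exact fun x hx => h1 hx)
    exact ⟨l, by rw [hl, hτ, Category.assoc]⟩
  · rintro ⟨l, rfl⟩
    refine UG.precomp l _ (UG.of_G ?_)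
    set I := relIdeal (A := A) m
    let φ₀ : A ⟶ CommRingCat.of (A ⧸ I) := CommRingCat.ofHom (Ideal.Quotient.mk I)
    obtain ⟨β, hβ⟩ := exists_dual (A := A) hm φ₀.hom (fun x hx => Ideal.Quotient.eq_zero_iff_mem.2 hx)
    have H₀ := IsPullback.of_hasPullback f (Spec.map φ₀)
    exact ⟨_, _, _, H₀, _, ugen_of_dual R φ₀ m hm β hβ H₀⟩

/-- A universal basis over a field gives a basis of the functionals of `R.M`. -/
theorem isBas_of_G {K : Type u} [Field K] {φ : A ⟶ CommRingCat.of K} (hG : G f E r (Spec.map φ)) :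
    ∃ α : Fin r → (R.M →ₛₗ[φ.hom] K), IsBas K α := by
  obtain ⟨X₀, a₀, p₀, H₀, s, hs⟩ := hG
  have hb := hs _ (𝟙 _) X₀ a₀ p₀ (by rwa [Category.id_comp]) (𝟙 X₀) (Category.id_comp _)
    (by rw [Category.id_comp, Category.comp_id])
  have hα0 : ∀ i, ∃ α : R.M →ₛₗ[φ.hom] K, R.θ H₀ α =
    tr (𝟙 X₀) a₀ a₀ (Category.id_comp _) E (U := ⊤) (V := ⊤) le_top (s i) := fun i => (R.bij H₀).2 _
  choose α hα using hα0
  simp only [← hα] at hb
  refine ⟨α, ?_⟩
  have h1 : (fun c : Fin r → K => ∑ i, scal p₀ (c i) • R.θ H₀ (α i)) =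
      (fun β => R.θ H₀ β) ∘ fun c : Fin r → K => ∑ i, c i • α i := by
    funext c
    exact (theta_sum R H₀ c α).symm
  have h2 : Function.Bijective ((fun β => R.θ H₀ β) ∘ fun c : Fin r → K => ∑ i, c i • α i) := by
    rw [← h1]
    exact hb
  exact (Function.Bijective.of_comp_iff' (R.bij H₀) _).mp h2

include R in
theorem good_of_isBas {K : Type u} [Field K] {φ : A ⟶ CommRingCat.of K}
    {α : Fin r → (R.M →ₛₗ[φ.hom] K)} (hB : IsBas K α) (q : Spec (CommRingCat.of K)) :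
    Good (UG f E r) ((Spec.map φ).base q) := by
  have := R.fp
  obtain ⟨m, g, hg, hm⟩ := Groth.Agent.Flat2F.GenAlg.exists_gens (K := K) φ.hom _ hB
  let Ag : CommRingCat.{u} := CommRingCat.of (Localization.Away g)
  let alg : A ⟶ Ag := CommRingCat.ofHom (algebraMap A (Localization.Away g))
  have hj : IsOpenImmersion (Spec.map alg) := inferInstanceAs
    (IsOpenImmersion (Spec.map (CommRingCat.ofHom (algebraMap A (Localization.Away g)))))
  let φg : Ag ⟶ CommRingCat.of K :=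
    CommRingCat.ofHom (IsLocalization.Away.lift (S := Localization.Away g) g (g := φ.hom)
      (IsUnit.mk0 _ hg))
  have hφg : alg ≫ φg = φ := by
    ext x
    exact IsLocalization.Away.lift_eq g (IsUnit.mk0 _ hg) x
  have H := IsPullback.of_hasPullback f (Spec.map alg)
  let Rg := ofPullback H R
  have hm' := span_ext alg.hom g (IsLocalization.Away.algebraMap_isUnit g) m hm
  have hfp := Rg.fp
  refine ⟨Ag, Spec.map alg, hj, _, relIdeal_fg (A := Ag) (M := Rg.M) hm', ⟨(Spec.map φg).base q, ?_⟩,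
    fun T t => ?_⟩
  · rw [← hφg, Spec.map_comp]
    rfl
  · rw [← ug_baseChange H]
    exact ug_iff_of_generator Rg _ hm' T t

include R in
theorem good_of_field {K : Type u} [Field K]
    {φ : A ⟶ CommRingCat.of K} (hU : UG f E r (Spec.map φ)) (q : Spec (CommRingCat.of K)) :
    Good (UG f E r) ((Spec.map φ).base q) := by
  obtain ⟨α, hα⟩ := isBas_of_G R hU.toG_of_field
  exact good_of_isBas R hα q

end Affine

theorem good_baseChange' {X S X₁ S₁ : Scheme.{u}} {f : X ⟶ S} {E : X.Modules} {f₁ : X₁ ⟶ S₁} {b : X₁ ⟶ X}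
    {j : S₁ ⟶ S} {r : ℕ} (H : IsPullback b f₁ f j) [IsOpenImmersion j] {y₁ : S₁}
    (h : Good (UG f₁ ((Scheme.Modules.pullback b).obj E) r) y₁) : Good (UG f E r) (j.base y₁) := by
  obtain ⟨A', j', hj', I, hI, ⟨z, hz⟩, hP⟩ := h
  refine ⟨A', j' ≫ j, inferInstance, I, hI, ⟨z, ?_⟩, fun T t => ?_⟩
  · rw [← hz]
    rfl
  · rw [← hP T t, ug_baseChange H, Category.assoc]

/-- The points over which there are universal bases are good. -/
theorem good_of_ug {X S : Scheme.{u}} (f : X ⟶ S) (E : X.Modules) {r : ℕ}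
    (hR : ∀ (A : CommRingCat.{u}) (j : Spec A ⟶ S), IsOpenImmersion j →
      Nonempty (RepH0 (pullback.snd f j) ((Scheme.Modules.pullback (pullback.fst f j)).obj E)))
    {T : Scheme.{u}} (g : T ⟶ S) (hU : UG f E r g) (t : T) : Good (UG f E r) (g.base t) := by
  obtain ⟨A, j, hj, y, hy⟩ : ∃ (A : CommRingCat.{u}) (j : Spec A ⟶ S) (_ : IsOpenImmersion j)
      (y : Spec A), j.base y = g.base t := by
    obtain ⟨y, hy⟩ := S.affineOpenCover.covers (g.base t)
    exact ⟨_, S.affineOpenCover.f _, inferInstance, y, hy⟩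
  obtain ⟨R⟩ := hR A j hj
  have H := IsPullback.of_hasPullback f j
  let u : Spec (T.residueField t) ⟶ S := T.fromSpecResidueField t ≫ g
  have hu : ∀ q, u.base q = g.base t := by
    intro q
    change g.base ((T.fromSpecResidueField t).base q) = _
    rw [Scheme.fromSpecResidueField_apply]
  obtain ⟨v, hv⟩ : ∃ v : Spec (T.residueField t) ⟶ Spec A, v ≫ j = u := by
    refine ⟨IsOpenImmersion.lift j u ?_, IsOpenImmersion.lift_fac _ _ _⟩
    rintro _ ⟨q, rfl⟩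
    rw [hu]
    exact ⟨y, hy⟩
  have hUv : UG (pullback.snd f j) ((Scheme.Modules.pullback (pullback.fst f j)).obj E) r v := by
    rw [ug_baseChange H, hv]
    exact hU.precomp _ _
  obtain ⟨φ, rfl⟩ : ∃ φ, Spec.map φ = v := ⟨_, Spec.map_preimage v⟩
  let q : Spec (T.residueField t) := (⊥ : PrimeSpectrum (T.residueField t))
  have h1 := good_of_field (K := T.residueField t) R hUv q
  have h2 := good_baseChange' H h1
  have h3 : j.base ((Spec.map φ).base q) = g.base t := by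
    rw [← hu q, ← hv]
    rfl
  rwa [h3] at h2

/-- The locus of universal bases of length `r` is represented by an immersion. -/
theorem exists_ug_locus {X S : Scheme.{u}} (f : X ⟶ S) (E : X.Modules) (r : ℕ)
    (hR : ∀ (A : CommRingCat.{u}) (j : Spec A ⟶ S), IsOpenImmersion j →
      Nonempty (RepH0 (pullback.snd f j) ((Scheme.Modules.pullback (pullback.fst f j)).obj E))) :
    ∃ (Z : Scheme.{u}) (j : Z ⟶ S), IsImmersion j ∧ LocallyOfFinitePresentation j ∧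
      ∀ (T : Scheme.{u}) (g : T ⟶ S), (∃ g' : T ⟶ Z, g' ≫ j = g) ↔ UG f E r g :=
  exists_immersion (UG f E r) (fun _ _ h g => UG.precomp h g) (fun _ g => UG.of_local g)
    (fun _ g hU t => good_of_ug f E hR g hU t)

end K87.UBas
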