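import Groth.Agent.Coherent.K87.UBas
import Groth.Agent.PicF.K248.UGenBC

/-!
# Universal bases and base change of direct images

`ug_iff`: for a cartesian square over `t : T ⟶ S`, `UG f E r t` iff `f_{T*} E_T` is finite locally free of rank `r`
and its formation commutes with every base change.
-/

set_option autoImplicit false
set_option linter.style.haveILetI false
universe u
open CategoryTheory CategoryTheory.Limits AlgebraicGeometry TopologicalSpace Opposite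

namespace K87.UBasBC

open K87.UBas K248.BC0
open K248.UGenBC (le_iSup_affine top_le pre_le)
open K248.UGen (tr_tr hom_inv_app)
open Groth.Agent.Flat2F.SecBasis Groth.Agent.Flat2F.BasAlg Groth.Agent.Flat2F.BCSec
open Groth.Agent.Flat2F.DescLocal Groth.Agent.Flat2F.RepH0Desc Groth.Agent.VarietyB.PullSec
open Groth.Agent.Fdesc.LocGen (pullSec)

section Affine

variable {X : Scheme.{u}} {r : ℕ}

theorem ores_ext' {ι : Type*} (W : ι → X.Opens) {V : X.Opens} (hW : ∀ i, W i ≤ V) (hc : V ≤ iSup W)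
    {a b : Γ(X, V)} (h : ∀ i, X.presheaf.map (homOfLE (hW i)).op a = X.presheaf.map (homOfLE (hW i)).op b) :
    a = b :=
  TopCat.Sheaf.eq_of_locally_eq' X.sheaf W V (fun i => homOfLE (hW i)) hc _ _ h

theorem res_ext' {M : X.Modules} {ι : Type*} (W : ι → X.Opens) {V : X.Opens} (hW : ∀ i, W i ≤ V)
    (hc : V ≤ iSup W) {a b : Γ(M, V)} (h : ∀ i, res M (hW i) a = res M (hW i) b) : a = b :=
  TopCat.Sheaf.eq_of_locally_eq' ⟨M.presheaf, M.isSheaf⟩ W V (fun i => homOfLE (hW i)) hc _ _ h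

/-- Bases may be tested on affine opens. -/
theorem basOn_of_affine {M : X.Modules} {V : X.Opens} (e : Fin r → Γ(M, V))
    (h : ∀ (W : X.Opens) (hW : W ≤ V), IsAffineOpen W → IsBas Γ(X, W) (fun i => res M hW (e i))) :
    BasOn M V e := by
  intro W hW
  constructor
  · intro a b hab
    dsimp only at hab
    funext j
    refine ores_ext' (fun i : {W' : X.Opens // IsAffineOpen W' ∧ W' ≤ W} => i.1) (fun i => i.2.2)
      (le_iSup_affine W) fun i => ?_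
    have h1 := congrArg (res M i.2.2) hab
    rw [res_sum, res_sum] at h1
    simp only [res_res] at h1
    exact congrFun ((h i.1 (i.2.2.trans hW) i.2.1).1 h1) j
  · intro m
    choose a ha using fun i : {W' : X.Opens // IsAffineOpen W' ∧ W' ≤ W} =>
      (h i.1 (i.2.2.trans hW) i.2.1).2 (res M i.2.2 m)
    dsimp only at ha
    have hcompat : ∀ k, TopCat.Presheaf.IsCompatible X.presheaf
        (fun i : {W' : X.Opens // IsAffineOpen W' ∧ W' ≤ W} => i.1) (fun i => a i k) := by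
      intro k i j
      refine ores_ext' (fun i' : {W' : X.Opens // IsAffineOpen W' ∧ W' ≤ i.1 ⊓ j.1} => i'.1)
          (fun i' => i'.2.2) (le_iSup_affine _) fun i' => ?_
      have hi : i'.1 ≤ i.1 := i'.2.2.trans inf_le_left
      have hj : i'.1 ≤ j.1 := i'.2.2.trans inf_le_right
      have h1 := congrArg (res M hi) (ha i)
      have h2 := congrArg (res M hj) (ha j)
      rw [res_sum, res_res] at h1 h2
      simp only [res_res] at h1 h2
      have h3 := congrFun ((h i'.1 ((hi.trans i.2.2).trans hW) i'.2.1).1 (h1.trans h2.symm)) k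
      change X.presheaf.map _ (X.presheaf.map _ (a i k)) = X.presheaf.map _ (X.presheaf.map _ (a j k))
      rw [← ConcreteCategory.comp_apply, ← Functor.map_comp, ← ConcreteCategory.comp_apply,
        ← Functor.map_comp]
      exact h3
    have hglue : ∀ k, ∃ d : Γ(X, W), ∀ i : {W' : X.Opens // IsAffineOpen W' ∧ W' ≤ W},
        X.presheaf.map (homOfLE i.2.2).op d = a i k := by
      intro k
      obtain ⟨d, hd, -⟩ := TopCat.Sheaf.existsUnique_gluing' X.sheaf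
        (fun i : {W' : X.Opens // IsAffineOpen W' ∧ W' ≤ W} => i.1) W (fun i => homOfLE i.2.2)
        (le_iSup_affine W) (fun i => a i k) (hcompat k)
      exact ⟨d, hd⟩
    choose d hd using hglue
    refine ⟨d, ?_⟩
    refine res_ext' (fun i : {W' : X.Opens // IsAffineOpen W' ∧ W' ≤ W} => i.1) (fun i => i.2.2)
      (le_iSup_affine W) fun i => ?_
    dsimp only
    rw [res_sum, ← ha i]
    refine Finset.sum_congr rfl fun k _ => ?_
    rw [hd, res_res]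

end Affine

section On

variable {X S : Scheme.{u}} (f : X ⟶ S) (E : X.Modules) {r : ℕ}

/-- The sections `s` of `E_T` over `p⁻¹ V` are a universal basis. -/
def UGenOn {T XT : Scheme.{u}} (t : T ⟶ S) (a : XT ⟶ X) (p : XT ⟶ T) (V : T.Opens)
    (s : Fin r → Γ((Scheme.Modules.pullback a).obj E, p ⁻¹ᵁ V)) : Prop :=
  ∀ (C : CommRingCat.{u}) (u : Spec C ⟶ T) (hu : ⊤ ≤ u ⁻¹ᵁ V) (X' : Scheme.{u}) (a' : X' ⟶ X)
    (p' : X' ⟶ Spec C) (_ : IsPullback a' p' f (u ≫ t)) (k : X' ⟶ XT) (hk : k ≫ a = a')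
    (hk' : k ≫ p = p' ≫ u),
    Function.Bijective (fun c : Fin r → C =>
      ∑ i, scal p' (c i) • tr k a a' hk E (U := p ⁻¹ᵁ V) (V := ⊤) (top_le hu hk') (s i))

variable {f E}

theorem UGenOn.precomp {T XT T' XT' : Scheme.{u}} {t : T ⟶ S} {a : XT ⟶ X} {p : XT ⟶ T} {V : T.Opens}
    {s : Fin r → Γ((Scheme.Modules.pullback a).obj E, p ⁻¹ᵁ V)} (hs : UGenOn f E t a p V s) (u : T' ⟶ T)
    (u' : XT' ⟶ XT) (p' : XT' ⟶ T') (a' : XT' ⟶ X) (ha' : u' ≫ a = a') (hu' : u' ≫ p = p' ≫ u) :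
    UGenOn f E (u ≫ t) a' p' (u ⁻¹ᵁ V) (fun i => tr u' a a' ha' E (pre_le V hu') (s i)) := by
  intro C v hv X'' a'' p'' H'' k hk hk'
  have h1 := hs C (v ≫ u) hv X'' a'' p'' (by rwa [Category.assoc]) (k ≫ u')
    (by rw [Category.assoc, ha', hk]) (by rw [Category.assoc, hu', reassoc_of% hk'])
  have h2 := fun i => tr_tr k u' a a' a'' ha' hk (by rw [Category.assoc, ha', hk]) E (U := p ⁻¹ᵁ V)
    (V := p' ⁻¹ᵁ (u ⁻¹ᵁ V)) (T := ⊤) (pre_le V hu') (top_le hv hk')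
    (top_le (u := v ≫ u) hv (by rw [Category.assoc, hu', reassoc_of% hk'])) (s i)
  simp only [h2]
  exact h1

theorem basOn_of_ugenOn {T XT : Scheme.{u}} {t : T ⟶ S} {a : XT ⟶ X} {p : XT ⟶ T} {V : T.Opens}
    {s : Fin r → Γ((Scheme.Modules.pullback a).obj E, p ⁻¹ᵁ V)} (H : IsPullback a p f t)
    (hs : UGenOn f E t a p V s) : BasOn _ V (fun i => toPush p _ V (s i)) := by
  refine basOn_of_affine _ fun W hW hWa => ?_
  let u := hWa.fromSpec
  have hu : ⊤ ≤ u ⁻¹ᵁ V := by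
    rw [← hWa.fromSpec_preimage_self]
    exact u.preimage_mono hW
  let k := pullback.fst p u
  let p' := pullback.snd p u
  have hk' : k ≫ p = p' ≫ u := pullback.condition
  have hb := hs _ u hu _ (k ≫ a) p' ((IsPullback.of_hasPullback p u).paste_horiz H) k rfl hk'
  have e : ⊤ ≤ k ⁻¹ᵁ (p ⁻¹ᵁ W) := top_le (hWa.fromSpec_preimage_self).ge hk'
  have hrange : p ⁻¹ᵁ W ≤ k ''ᵁ ⊤ := by
    rw [Scheme.Hom.image_top_eq_opensRange, Scheme.Hom.opensRange_pullbackFst, hWa.opensRange_fromSpec]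
  have hB : Function.Bijective (tr k a (k ≫ a) rfl E (U := p ⁻¹ᵁ W) (V := ⊤) e) :=
    (app_bijective (cmp k a (k ≫ a) rfl E) ⊤).comp
      (Groth.Agent.Fga.SecComp.sec_bijective_of_isOpenImmersion k _ e hrange)
  have hsc : ∀ c : Γ(T, W), k.appLE (p ⁻¹ᵁ W) ⊤ e (p.app W c) = scal p' c := by
    intro c
    have key : ∀ (g : pullback p u ⟶ T) (_ : g = p' ≫ u) (e' : ⊤ ≤ g ⁻¹ᵁ W),
        g.appLE W ⊤ e' = (Scheme.ΓSpecIso Γ(T, W)).inv ≫ p'.appTop := by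
      rintro g rfl e'
      rw [Scheme.Hom.comp_appLE, hWa.fromSpec_app_self, Category.assoc, Scheme.Hom.map_appLE]
      congr 1
      exact Scheme.Hom.appLE_eq_app _
    have h1 := key (k ≫ p) hk' e
    rw [Scheme.Hom.comp_appLE] at h1
    exact ConcreteCategory.congr_hom h1 c
  refine (Function.Bijective.of_comp_iff' hB _).1 ?_
  have h2 : (tr k a (k ≫ a) rfl E (U := p ⁻¹ᵁ W) (V := ⊤) e) ∘ (fun c : Fin r → Γ(T, W) =>
      ∑ i, c i • res _ hW (toPush p _ V (s i))) =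
      fun c => ∑ i, scal p' (c i) • tr k a (k ≫ a) rfl E (U := p ⁻¹ᵁ V) (V := ⊤) (top_le hu hk') (s i) := by
    funext c
    rw [Function.comp_apply]
    refine (map_sum (tr k a (k ≫ a) rfl E (U := p ⁻¹ᵁ W) (V := ⊤) e) _ _).trans ?_
    refine Finset.sum_congr rfl fun i _ => ?_
    have h3 := tr_res k a (k ≫ a) rfl E (U := p ⁻¹ᵁ V) (V := ⊤) e (p.preimage_mono hW) (s i)
    rw [← h3, ← hsc (c i), ← tr_smul]
    rfl
  exact (congrArg Function.Bijective h2).mpr hb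

/-- A universal basis over `T₀`, `T₀ ⟶ T` an open immersion, seen over `T`. -/
theorem exists_ugenOn {T XT : Scheme.{u}} {t : T ⟶ S} {a : XT ⟶ X} {p : XT ⟶ T} (H : IsPullback a p f t)
    {T₀ : Scheme.{u}} (h : T₀ ⟶ T) [IsOpenImmersion h] (hG : G f E r (h ≫ t)) :
    ∃ s : Fin r → Γ((Scheme.Modules.pullback a).obj E, p ⁻¹ᵁ h.opensRange),
      UGenOn f E t a p h.opensRange s := by
  obtain ⟨X₀, a₀, p₀, H₀, s, hs⟩ := hG
  let k₀ : X₀ ⟶ XT := H.lift a₀ (p₀ ≫ h) (by rw [H₀.w, Category.assoc])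
  have hk₀ : k₀ ≫ a = a₀ := H.lift_fst _ _ _
  have hk₀' : k₀ ≫ p = p₀ ≫ h := H.lift_snd _ _ _
  have H₁ : IsPullback k₀ p₀ p h := IsPullback.of_right (by rw [hk₀]; exact H₀) hk₀' H
  have hopen : IsOpenImmersion k₀ := MorphismProperty.of_isPullback H₁.flip inferInstance
  have e : ⊤ ≤ k₀ ⁻¹ᵁ (p ⁻¹ᵁ h.opensRange) := top_le (u := h) (by
    rw [Scheme.Hom.preimage_opensRange]) hk₀'
  have hrange : p ⁻¹ᵁ h.opensRange ≤ k₀ ''ᵁ ⊤ := by
    rw [Scheme.Hom.image_top_eq_opensRange]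
    rintro x ⟨t₀, ht₀⟩
    obtain ⟨z, hz, -⟩ := Scheme.exists_preimage_of_isPullback H₁ x t₀ ht₀.symm
    exact ⟨z, hz⟩
  have hB : Function.Bijective (tr k₀ a a₀ hk₀ E (U := p ⁻¹ᵁ h.opensRange) (V := ⊤) e) :=
    (app_bijective (cmp k₀ a a₀ hk₀ E) ⊤).comp
      (Groth.Agent.Fga.SecComp.sec_bijective_of_isOpenImmersion k₀ _ e hrange)
  choose sT hsT using fun i => hB.2 (s i)
  refine ⟨sT, ?_⟩
  intro C u hu X' a' p' H' k hk hk'
  obtain ⟨v, hv⟩ : ∃ v : Spec C ⟶ T₀, v ≫ h = u := by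
    refine ⟨IsOpenImmersion.lift h u ?_, IsOpenImmersion.lift_fac _ _ _⟩
    rintro _ ⟨q, rfl⟩
    exact hu (show q ∈ ⊤ from trivial)
  let k' : X' ⟶ X₀ := H₁.lift k (p' ≫ v) (by rw [hk', Category.assoc, hv])
  have hk'₁ : k' ≫ k₀ = k := H₁.lift_fst _ _ _
  have hk'₂ : k' ≫ p₀ = p' ≫ v := H₁.lift_snd _ _ _
  have h1 := hs C v X' a' p' (by rw [reassoc_of% hv]; exact H') k'
    (by rw [← hk₀, reassoc_of% hk'₁, hk]) hk'₂
  simp only [← hsT] at h1
  have h2 := fun i => tr_tr k' k₀ a a₀ a' hk₀ (by rw [← hk₀, reassoc_of% hk'₁, hk])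
    (by rw [hk'₁, hk]) E (U := p ⁻¹ᵁ h.opensRange) (V := ⊤) (T := ⊤) e le_top
    (by rw [hk'₁]; exact top_le hu hk') (sT i)
  simp only [h2] at h1
  have key : ∀ (k₁ : X' ⟶ XT) (_ : k₁ = k) (hk₁ : k₁ ≫ a = a') (e₁ : ⊤ ≤ k₁ ⁻¹ᵁ (p ⁻¹ᵁ h.opensRange)),
      Function.Bijective (fun c : Fin r → C => ∑ i, scal p' (c i) • tr k₁ a a' hk₁ E
        (U := p ⁻¹ᵁ h.opensRange) (V := ⊤) e₁ (sT i)) →
      Function.Bijective (fun c : Fin r → C => ∑ i, scal p' (c i) • tr k a a' hk E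
        (U := p ⁻¹ᵁ h.opensRange) (V := ⊤) (top_le hu hk') (sT i)) := by
    rintro k₁ rfl hk₁ e₁ h
    exact h
  exact key _ hk'₁ _ _ h1

end On

section Main

variable {X S : Scheme.{u}} {f : X ⟶ S} {E : X.Modules} {r : ℕ}

/-- The image of a universal basis under the base change morphism is a basis. -/
theorem basOn_bc0 {T XT : Scheme.{u}} {t : T ⟶ S} {gT : XT ⟶ X} {fT : XT ⟶ T} {V : T.Opens}
    {s : Fin r → Γ((Scheme.Modules.pullback gT).obj E, fT ⁻¹ᵁ V)} (hT : IsPullback gT fT f t)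
    (hs : UGenOn f E t gT fT V s) {T' XT' : Scheme.{u}} (u : T' ⟶ T) (fT' : XT' ⟶ T') (u' : XT' ⟶ XT)
    (hT' : IsPullback u' fT' fT u) :
    BasOn _ (u ⁻¹ᵁ V) (fun i => (CohBC.bc0 fT u fT' u' hT'.w ((Scheme.Modules.pullback gT).obj E)).app
      (u ⁻¹ᵁ V) (pullSec u (toPush fT _ V (s i)))) := by
  simp only [bc0_app_pullSec]
  have h1 := basOn_of_ugenOn (hT'.paste_horiz hT) (hs.precomp u u' fT' (u' ≫ gT) rfl hT'.w)
  have h2 := h1.map_iso ((Scheme.Modules.pushforward fT').mapIso (cmp u' gT (u' ≫ gT) rfl E).symm)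
  convert h2 using 1
  funext i
  change _ = toPush fT' _ _ ((cmp u' gT (u' ≫ gT) rfl E).inv.app _ (tr u' gT (u' ≫ gT) rfl E
    (pre_le V hT'.w) (s i)))
  congr 1
  rw [tr_apply]
  refine (hom_inv_app (cmp u' gT (u' ≫ gT) rfl E).symm _ _).symm.trans ?_
  rfl

theorem isIso_of_basOn {Y : Scheme.{u}} {M N : Y.Modules} (φ : M ⟶ N)
    (h : ∀ y : Y, ∃ (V : Y.Opens) (s : Fin r → Γ(M, V)), y ∈ V ∧ BasOn M V s ∧
      BasOn N V (fun i => φ.app V (s i))) : IsIso φ := by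
  refine Groth.Agent.Sga67.FlatPre.isIso_of_stalkMap_bijective _ fun y => ?_
  obtain ⟨V, s, hy, h1, h2⟩ := h y
  exact (h1.basAt y hy).bijective φ (h2.basAt y hy)

theorem isFinLocFreeOfRank_iff_basOn {Y : Scheme.{u}} (M : Y.Modules) :
    FlatMod.IsFinLocFreeOfRank r M ↔
      ∀ y : Y, ∃ (V : Y.Opens) (s : Fin r → Γ(M, V)), y ∈ V ∧ BasOn M V s := by
  constructor
  · intro h y
    obtain ⟨U, hy, e⟩ := h y
    obtain ⟨s, hs⟩ := (nonempty_restrict_iso_iff M U).mp e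
    exact ⟨U, s, hy, hs⟩
  · intro h y
    obtain ⟨U, s, hy, hs⟩ := h y
    exact ⟨U, hy, (nonempty_restrict_iso_iff M U).mpr ⟨s, hs⟩⟩

theorem of_ug {T XT : Scheme.{u}} {t : T ⟶ S} {gT : XT ⟶ X} {fT : XT ⟶ T}
    (hT : IsPullback gT fT f t) (h : UG f E r t) :
    FlatMod.IsFinLocFreeOfRank r
        ((Scheme.Modules.pushforward fT).obj ((Scheme.Modules.pullback gT).obj E)) ∧
      ∀ (T' : Scheme.{u}) (u : T' ⟶ T) (XT' : Scheme.{u}) (fT' : XT' ⟶ T') (u' : XT' ⟶ XT)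
        (hT' : IsPullback u' fT' fT u),
        IsIso (CohBC.bc0 fT u fT' u' hT'.w ((Scheme.Modules.pullback gT).obj E)) := by
  have key : ∀ x : T, ∃ (V : T.Opens) (_ : x ∈ V)
      (s : Fin r → Γ((Scheme.Modules.pullback gT).obj E, fT ⁻¹ᵁ V)), UGenOn f E t gT fT V s := by
    intro x
    obtain ⟨T₀, i, hi, hx, hG⟩ := h x
    obtain ⟨s, hs⟩ := exists_ugenOn hT i hG
    exact ⟨i.opensRange, hx, s, hs⟩
  refine ⟨(isFinLocFreeOfRank_iff_basOn _).2 fun x => ?_, fun T' u XT' fT' u' hT' => ?_⟩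
  · obtain ⟨V, hx, s, hs⟩ := key x
    exact ⟨V, _, hx, basOn_of_ugenOn hT hs⟩
  · refine isIso_of_basOn (r := r) _ fun x' => ?_
    obtain ⟨V, hx, s, hs⟩ := key (u x')
    exact ⟨u ⁻¹ᵁ V, fun i => pullSec u (toPush fT _ V (s i)), hx, (basOn_of_ugenOn hT hs).pullback u,
      basOn_bc0 hT hs u fT' u' hT'⟩

theorem ug_of {T XT : Scheme.{u}} {t : T ⟶ S} {gT : XT ⟶ X} {fT : XT ⟶ T}
    (hT : IsPullback gT fT f t)
    (hN : FlatMod.IsFinLocFreeOfRank r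
      ((Scheme.Modules.pushforward fT).obj ((Scheme.Modules.pullback gT).obj E)))
    (hbc : ∀ (T' : Scheme.{u}) (u : T' ⟶ T) (XT' : Scheme.{u}) (fT' : XT' ⟶ T') (u' : XT' ⟶ XT)
        (hT' : IsPullback u' fT' fT u),
        IsIso (CohBC.bc0 fT u fT' u' hT'.w ((Scheme.Modules.pullback gT).obj E))) : UG f E r t := by
  intro x
  obtain ⟨V, e₀, hx, he₀⟩ := (isFinLocFreeOfRank_iff_basOn _).1 hN x
  obtain ⟨s, rfl⟩ : ∃ s : Fin r → Γ((Scheme.Modules.pullback gT).obj E, fT ⁻¹ᵁ V),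
      e₀ = fun i => toPush fT ((Scheme.Modules.pullback gT).obj E) V (s i) :=
    ⟨fun i => (toPush fT ((Scheme.Modules.pullback gT).obj E) V).symm (e₀ i), by
      funext i; exact ((toPush fT ((Scheme.Modules.pullback gT).obj E) V).apply_symm_apply _).symm⟩
  refine ⟨V, V.ι, inferInstance, ⟨⟨x, hx⟩, rfl⟩, ?_⟩
  have H₁ := (isPullback_morphismRestrict fT V).flip
  have e₁ : ⊤ ≤ (fT ⁻¹ᵁ V).ι ⁻¹ᵁ (fT ⁻¹ᵁ V) := fun y _ => y.2
  refine ⟨_, _, _, H₁.paste_horiz hT, fun i => tr (fT ⁻¹ᵁ V).ι gT _ rfl E (U := fT ⁻¹ᵁ V) (V := ⊤) e₁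
    (s i), ?_⟩
  intro C u X' a' p' H' k hk hk'
  have hk₁ : (k ≫ (fT ⁻¹ᵁ V).ι) ≫ gT = a' := by rw [Category.assoc, hk]
  have hT' : IsPullback (k ≫ (fT ⁻¹ᵁ V).ι) p' fT (u ≫ V.ι) := IsPullback.of_right
    (by rw [hk₁, Category.assoc]; exact H') (by
      rw [Category.assoc, ← morphismRestrict_ι, reassoc_of% hk']) hT
  have hiso := hbc _ (u ≫ V.ι) _ p' _ hT'
  have hu : ⊤ ≤ (u ≫ V.ι) ⁻¹ᵁ V := fun y _ => (u y).2
  have h1 := ((he₀.pullback (u ≫ V.ι)).map_iso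
    (asIso (CohBC.bc0 fT (u ≫ V.ι) p' _ hT'.w ((Scheme.Modules.pullback gT).obj E)))) ⊤ hu
  have h1' : ∀ i, (asIso (CohBC.bc0 fT (u ≫ V.ι) p' _ hT'.w ((Scheme.Modules.pullback gT).obj E))).hom.app
      ((u ≫ V.ι) ⁻¹ᵁ V) (pbs (u ≫ V.ι) _ (toPush fT ((Scheme.Modules.pullback gT).obj E) V (s i))) =
      toPush p' _ _ (Groth.Agent.Fdesc.LocGen.res _
      (preim_eq fT (u ≫ V.ι) p' _ hT'.w V).le (pullSec (k ≫ (fT ⁻¹ᵁ V).ι) (s i))) := by
    intro i
    rw [asIso_hom]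
    exact bc0_app_pullSec fT (u ≫ V.ι) p' _ hT'.w _ V (s i)
  simp only [h1'] at h1
  have h2 := fun i => tr_tr k (fT ⁻¹ᵁ V).ι gT _ a' rfl hk hk₁ E (U := fT ⁻¹ᵁ V) (V := ⊤) (T := ⊤) e₁ le_top
    (top_le hu hT'.w) (s i)
  simp only [h2]
  have h4 : ∀ i, res _ hu (toPush p' _ _ (Groth.Agent.Fdesc.LocGen.res _
      (preim_eq fT (u ≫ V.ι) p' _ hT'.w V).le (pullSec (k ≫ (fT ⁻¹ᵁ V).ι) (s i)))) =
      toPush p' _ ⊤ (sec (k ≫ (fT ⁻¹ᵁ V).ι) ((Scheme.Modules.pullback gT).obj E)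
        (top_le hu hT'.w) (s i)) := by
    intro i
    refine (res_toPush p' _ hu _).trans ?_
    rw [Groth.Agent.Fdesc.LocGen.res_res]
    rfl
  simp only [h4] at h1
  have hbB : Function.Bijective (fun c : Fin r → C => fun i => (Scheme.ΓSpecIso C).inv (c i)) := by
    have hb := ConcreteCategory.bijective_of_isIso (Scheme.ΓSpecIso C).inv
    refine ⟨fun c d hcd => funext fun i => hb.1 (congrFun hcd i), fun c => ?_⟩
    choose d hd using fun i => hb.2 (c i)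
    exact ⟨d, funext hd⟩
  have h3 := (app_bijective (cmp (k ≫ (fT ⁻¹ᵁ V).ι) gT a' hk₁ E) ⊤).comp (h1.comp hbB)
  convert h3 using 1
  funext c
  rw [Function.comp_apply, Function.comp_apply]
  refine Eq.symm (Eq.trans (map_sum ((cmp (k ≫ (fT ⁻¹ᵁ V).ι) gT a' hk₁ E).hom.app ⊤).hom _ _) ?_)
  refine Finset.sum_congr rfl fun i _ => ?_
  rw [tr_apply, ← Scheme.Modules.Hom.app_smul]
  rfl

theorem ug_iff {T XT : Scheme.{u}} {t : T ⟶ S} {gT : XT ⟶ X} {fT : XT ⟶ T}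
    (hT : IsPullback gT fT f t) : UG f E r t ↔
    (FlatMod.IsFinLocFreeOfRank r
        ((Scheme.Modules.pushforward fT).obj ((Scheme.Modules.pullback gT).obj E)) ∧
      ∀ (T' : Scheme.{u}) (u : T' ⟶ T) (XT' : Scheme.{u}) (fT' : XT' ⟶ T') (u' : XT' ⟶ XT)
        (hT' : IsPullback u' fT' fT u),
        IsIso (CohBC.bc0 fT u fT' u' hT'.w ((Scheme.Modules.pullback gT).obj E))) :=
  ⟨fun h => of_ug hT h, fun h => ug_of hT h.1 h.2⟩

end Main

end K87.UBasBC
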