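import Groth.Agent.Coherent.K87.UBasBC
import Groth.Agent.Flat2F.RepH0
import Groth.Agent.VarietyA.H0Equiv
import Groth.Agent.Fdesc.FlatBC
import Groth.Agent.FormalA.PullbackQC
import Groth.Prelude.Def_ega3

/-!
# Universal bases over a field and the rank of `H^0` of the fibres
-/

set_option autoImplicit false
set_option linter.style.haveILetI false
universe u
open CategoryTheory CategoryTheory.Limits AlgebraicGeometry TopologicalSpace Opposite

namespace K87.UBasFib

open K87.UBas K87.UBasBC
open K248.UGen (tr_tr hom_inv_app)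
open Groth.Agent.Flat2F.SecBasis Groth.Agent.Flat2F.BasAlg Groth.Agent.Flat2F.BCSec
open Groth.Agent.Flat2F.DescLocal Groth.Agent.Flat2F.RepH0Desc Groth.Agent.VarietyB.PullSec
open Groth.Agent.Flat2F.ImmGlue

section Field

variable {K : Type u} [Field K] {X : Scheme.{u}} {f : X ⟶ Spec (CommRingCat.of K)} {E : X.Modules}

theorem ug_of_repH0 (R : RepH0 f E) :
    UG f E (Module.finrank K R.M) (𝟙 (Spec (CommRingCat.of K))) := by
  have hfp := R.fp
  have : Module.Finite K R.M := inferInstance
  let b := Module.finBasis K R.M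
  refine (ug_iff_of_generator R b b.span_eq _ (𝟙 _)).mpr ?_
  obtain ⟨l, hl⟩ := exists_factor_spec (relIdeal (A := K) b) (𝟙 (CommRingCat.of K)) (by
    intro x hx
    have h1 : relIdeal (A := K) b ≤ ⊥ := relIdeal_le fun c hc j => by
      have h2 := Fintype.linearIndependent_iff.mp b.linearIndependent c hc j
      rw [h2]
      exact Submodule.zero_mem _
    have h3 : x = 0 := h1 hx
    rw [h3, map_zero])
  exact ⟨l, by rw [hl, Spec.map_id]⟩

/-- The vector space of global sections. -/
noncomputable abbrev secMod (f : X ⟶ Spec (CommRingCat.of K)) (E : X.Modules) : Module K Γ(E, ⊤) :=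
  Module.compHom Γ(E, ⊤) (scal (B := CommRingCat.of K) f)

theorem finrank_of_ug {r : ℕ} (h : UG f E r (𝟙 (Spec (CommRingCat.of K)))) :
    @Module.finrank K Γ(E, ⊤) _ _ (secMod f E) = r := by
  obtain ⟨X₀, a₀, p₀, H₀, s, hs⟩ := h.toG_of_field
  let k : X ⟶ X₀ := H₀.lift (𝟙 X) f (by rw [Category.id_comp, Category.comp_id])
  have hk : k ≫ a₀ = 𝟙 X := H₀.lift_fst _ _ _
  have hk' : k ≫ p₀ = f ≫ 𝟙 _ := by rw [Category.comp_id]; exact H₀.lift_snd _ _ _
  have hb := hs _ (𝟙 _) X (𝟙 X) f (by
    rw [Category.id_comp]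
    exact IsPullback.of_horiz_isIso ⟨by simp⟩) k hk hk'
  let e : (Scheme.Modules.pullback (𝟙 X)).obj E ≅ E := (Scheme.Modules.pullbackId X).app E
  have h2 := (app_bijective e ⊤).comp hb
  letI := secMod f E
  let t : Fin r → Γ(E, ⊤) := fun i => e.hom.app ⊤ (tr k a₀ (𝟙 X) hk E (U := ⊤) (V := ⊤) le_top (s i))
  have h3 : Function.Bijective (Fintype.linearCombination K t) := by
    convert h2 using 1
    funext c
    rw [Function.comp_apply, Fintype.linearCombination_apply]
    refine Eq.symm (Eq.trans (map_sum (e.hom.app ⊤).hom _ _) ?_)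
    refine Finset.sum_congr rfl fun i _ => ?_
    exact Scheme.Modules.Hom.app_smul _ _ _
  have h4 := (LinearEquiv.ofBijective (Fintype.linearCombination K t) h3).finrank_eq
  rw [Module.finrank_fin_fun] at h4
  exact h4.symm

theorem ug_iff_finrank (R : RepH0 f E) {r : ℕ} :
    UG f E r (𝟙 (Spec (CommRingCat.of K))) ↔ @Module.finrank K Γ(E, ⊤) _ _ (secMod f E) = r := by
  constructor
  · exact finrank_of_ug
  · rintro rfl
    have h1 := ug_of_repH0 R
    rwa [← finrank_of_ug h1] at h1

end Field

section Fibre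

variable {X S : Scheme.{u}} (f : X ⟶ S) (F : X.Modules)

theorem isPullback_fibre (s : S) :
    IsPullback (f.fiberι s) (f.fiberToSpecResidueField s) f (S.fromSpecResidueField s) :=
  IsPullback.of_hasPullback _ _

theorem fiberRank_zero (s : S) : CohIII.fiberRank f F 0 s =
    @Module.finrank (S.residueField s) Γ(CohIII.fiberMod f F s, ⊤) _ _
      (secMod (K := S.residueField s) (f.fiberToSpecResidueField s) (CohIII.fiberMod f F s)) := by
  letI := secMod (K := S.residueField s) (f.fiberToSpecResidueField s) (CohIII.fiberMod f F s)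
  let e : CohIII.fiberH f F s 0 ≃ₗ[S.residueField s] Γ(CohIII.fiberMod f F s, ⊤) :=
    { Groth.Agent.VarietyA.H0Equiv.hZeroEquiv (CohIII.fiberMod f F s) with
      map_smul' := fun c x =>
        Groth.Agent.VarietyA.H0Equiv.hZeroEquiv_smul (CohIII.fiberMod f F s) _ x }
  exact e.finrank_eq

theorem exists_repH0 [IsProper f] [LocallyOfFinitePresentation f] (hF : CohB1.IsFP F)
    (hfl : FlatMod.IsFlatOver f F) {A : CommRingCat.{u}} {P : Scheme.{u}} {a : P ⟶ X} {p : P ⟶ Spec A}
    {j : Spec A ⟶ S} (H : IsPullback a p f j) : Nonempty (RepH0 p ((Scheme.Modules.pullback a).obj F)) := by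
  have : IsProper p := MorphismProperty.of_isPullback H inferInstance
  have : LocallyOfFinitePresentation p := MorphismProperty.of_isPullback H inferInstance
  exact Groth.Agent.Flat2F.RepH0.exists_repH0_of_flat p _
    (Groth.Agent.FormalA.PullbackQC.isFP_pullback a F hF)
    (fun z => Groth.Agent.Fdesc.FlatBC.isFlatOverAt_pullback H F z (hfl _))

theorem ug_fibre_iff [IsProper f] [LocallyOfFinitePresentation f] (hF : CohB1.IsFP F)
    (hfl : FlatMod.IsFlatOver f F) (s : S) {r : ℕ} :
    UG f F r (S.fromSpecResidueField s) ↔ CohIII.fiberRank f F 0 s = r := by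
  have H := isPullback_fibre f s
  obtain ⟨R⟩ := exists_repH0 f F hF hfl H
  rw [fiberRank_zero, ← ug_iff_finrank (K := S.residueField s) R]
  have h1 := ug_baseChange (r := r) (E := F) H (𝟙 (Spec (S.residueField s)))
  rw [Category.id_comp] at h1
  exact h1.symm

end Fibre

end K87.UBasFib
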