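import Groth.Agent.Coherent.K87.UBasFib
import Groth.Agent.Cons9.K118.FibRankLocus
import Groth.Agent.FibDim.K582.Retro
import Mathlib.AlgebraicGeometry.ResidueField

/-!
# The locus where `f_* F` is finite locally free of rank `r`, universally

`exists_locus`: for `f : X ⟶ S` proper of finite presentation and `F` of finite presentation, flat over `S`,
the property "`f_{T*} F_T` is finite locally free of rank `r` and its formation commutes with base change" is
represented by a quasi-compact immersion locally of finite presentation with image `{s | h⁰(X_s, F_s) = r}`.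
-/

set_option autoImplicit false
set_option linter.style.haveILetI false
universe u
open CategoryTheory CategoryTheory.Limits AlgebraicGeometry TopologicalSpace Opposite TensorProduct

namespace K87.UBasMain

open K87.UBas K87.UBasBC K87.UBasFib
open Groth.Agent.Flat2F.SecBasis Groth.Agent.Flat2F.BasAlg Groth.Agent.Flat2F.BCSec
open Groth.Agent.Flat2F.DescLocal Groth.Agent.Flat2F.RepH0Desc Groth.Agent.VarietyB.PullSec
open Groth.Agent.Flat2F.ImmGlue

theorem isConstructible_fibRank_eq (A : Type u) [CommRing A] (M : Type u) [AddCommGroup M] [Module A M]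
    [Module.FinitePresentation A M] (r : ℕ) :
    Topology.IsConstructible {p : PrimeSpectrum A | Groth.Agent.Grpsch.FlatIdeal.fibRank A M p = r} := by
  cases r with
  | zero =>
    have := K118.FibRankLocus.isConstructible_fibRank_le A M 0
    simpa only [Nat.le_zero] using this
  | succ n =>
    have h2 := (K118.FibRankLocus.isConstructible_fibRank_le A M (n + 1)).sdiff
      (K118.FibRankLocus.isConstructible_fibRank_le A M n)
    have h3 : {p : PrimeSpectrum A | Groth.Agent.Grpsch.FlatIdeal.fibRank A M p = n + 1} =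
        {p : PrimeSpectrum A | Groth.Agent.Grpsch.FlatIdeal.fibRank A M p ≤ n + 1} \
          {p : PrimeSpectrum A | Groth.Agent.Grpsch.FlatIdeal.fibRank A M p ≤ n} := by
      ext p
      simp only [Set.mem_ofPred_eq, Set.mem_sdiff]
      omega
    rw [h3]
    exact h2

section

variable {X S : Scheme.{u}} {f : X ⟶ S} {F : X.Modules}

theorem ug_unique {K : Type u} [Field K] {x : Spec (CommRingCat.of K) ⟶ S} {r r' : ℕ}
    (h : UG f F r x) (h' : UG f F r' x) : r = r' := by
  have H := IsPullback.of_hasPullback f x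
  have e : ∀ r, UG (pullback.snd f x) ((Scheme.Modules.pullback (pullback.fst f x)).obj F) r (𝟙 _) ↔
      UG f F r x := fun r => by
    have h1 := ug_baseChange (r := r) (E := F) H (𝟙 (Spec (CommRingCat.of K)))
    rwa [Category.id_comp] at h1
  exact (finrank_of_ug ((e r).mpr h)).symm.trans (finrank_of_ug ((e r').mpr h'))

variable (f F) [IsProper f] [LocallyOfFinitePresentation f] (hF : CohB1.IsFP F)
    (hfl : FlatMod.IsFlatOver f F)

include hF hfl

theorem ug_field_iff {K : Type u} [Field K] (x : Spec (CommRingCat.of K) ⟶ S) {r : ℕ} :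
    UG f F r x ↔ CohIII.fiberRank f F 0 (x (IsLocalRing.closedPoint K)) = r := by
  have h1 : UG f F (CohIII.fiberRank f F 0 (x (IsLocalRing.closedPoint K))) x := by
    have h2 := (ug_fibre_iff f F hF hfl (x (IsLocalRing.closedPoint K))).mpr rfl
    have h3 := UG.precomp (Spec.map (S.descResidueField (Scheme.stalkClosedPointTo x))) _ h2
    rwa [Scheme.descResidueField_stalkClosedPointTo_fromSpecResidueField] at h3
  constructor
  · intro h
    exact ug_unique h1 h
  · rintro rfl
    exact h1

/-- The rank of `H^0` of a fibre, computed over a chart. -/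
theorem fiberRank_eq_fibRank {A : CommRingCat.{u}} (j : Spec A ⟶ S)
    (R : RepH0 (pullback.snd f j) ((Scheme.Modules.pullback (pullback.fst f j)).obj F))
    (p : PrimeSpectrum A) :
    CohIII.fiberRank f F 0 (j p) = Groth.Agent.Grpsch.FlatIdeal.fibRank A R.M p := by
  let φ : A ⟶ CommRingCat.of p.asIdeal.ResidueField :=
    CommRingCat.ofHom (algebraMap A p.asIdeal.ResidueField)
  have hx : (Spec.map φ ≫ j) (IsLocalRing.closedPoint p.asIdeal.ResidueField) = j p := by
    have h1 : (Spec.map φ) (IsLocalRing.closedPoint p.asIdeal.ResidueField) = p := by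
      have h2 : IsLocalRing.closedPoint p.asIdeal.ResidueField =
        (⊥ : PrimeSpectrum p.asIdeal.ResidueField) := Subsingleton.elim _ _
      rw [h2]
      refine PrimeSpectrum.ext ?_
      change (⊥ : Ideal p.asIdeal.ResidueField).comap (algebraMap A p.asIdeal.ResidueField) = p.asIdeal
      rw [← RingHom.ker_eq_comap_bot, Ideal.ker_algebraMap_residueField]
    rw [Scheme.Hom.comp_apply, h1]
  rw [← hx, ← ug_field_iff f F hF hfl]
  rw [← ug_baseChange (IsPullback.of_hasPullback f j)]
  let f₁ := pullback.snd f j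
  let E₁ := (Scheme.Modules.pullback (pullback.fst f j)).obj F
  have H := IsPullback.of_hasPullback f₁ (Spec.map φ)
  rw [← Category.id_comp (Spec.map φ), ← ug_baseChange H]
  have h3 := ug_of_repH0 (K := p.asIdeal.ResidueField) (ofPullback H R)
  have h4 : Module.finrank p.asIdeal.ResidueField (ofPullback H R).M =
      Groth.Agent.Grpsch.FlatIdeal.fibRank A R.M p :=
    @Groth.Agent.Grpsch.FlatIdeal.finrank_of_field A _ R.M _ _ p.asIdeal.ResidueField _
      (φ.hom.toAlgebra) p (Ideal.ker_algebraMap_residueField p.asIdeal).symm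
  rw [h4] at h3
  exact h3

theorem range_eq {Z : Scheme.{u}} (ι : Z ⟶ S) {r : ℕ}
    (hZ : ∀ (T : Scheme.{u}) (g : T ⟶ S), (∃ g' : T ⟶ Z, g' ≫ ι = g) ↔ UG f F r g) :
    Set.range ι = {s : S | CohIII.fiberRank f F 0 s = r} := by
  ext s
  constructor
  · rintro ⟨z, rfl⟩
    have h1 := (hZ _ (Z.fromSpecResidueField z ≫ ι)).mp ⟨_, rfl⟩
    rw [ug_field_iff (K := Z.residueField z) f F hF hfl] at h1
    rw [Scheme.Hom.comp_apply, Scheme.fromSpecResidueField_apply] at h1
    exact h1
  · intro hs
    obtain ⟨g', hg'⟩ := (hZ _ (S.fromSpecResidueField s)).mpr ((ug_fibre_iff f F hF hfl s).mpr hs)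
    refine ⟨g' (IsLocalRing.closedPoint (S.residueField s)), ?_⟩
    rw [← Scheme.Hom.comp_apply, hg', Scheme.fromSpecResidueField_apply]

theorem isCompact_level {U : S.Opens} (hU : IsAffineOpen U) (r : ℕ) :
    IsCompact ((U : Set S) ∩ {s : S | CohIII.fiberRank f F 0 s = r}) := by
  obtain ⟨R⟩ := exists_repH0 f F hF hfl (IsPullback.of_hasPullback f hU.fromSpec)
  have hfp := R.fp
  have h1 : (U : Set S) ∩ {s : S | CohIII.fiberRank f F 0 s = r} =
      hU.fromSpec '' {p : PrimeSpectrum Γ(S, U) |
        Groth.Agent.Grpsch.FlatIdeal.fibRank Γ(S, U) R.M p = r} := by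
    ext s
    constructor
    · rintro ⟨hs, hr⟩
      obtain ⟨p, rfl⟩ : s ∈ Set.range hU.fromSpec := by rw [hU.range_fromSpec]; exact hs
      exact ⟨p, (fiberRank_eq_fibRank f F hF hfl hU.fromSpec R p).symm.trans hr, rfl⟩
    · rintro ⟨p, hp, rfl⟩
      refine ⟨?_, (fiberRank_eq_fibRank f F hF hfl hU.fromSpec R p).trans hp⟩
      have : hU.fromSpec p ∈ Set.range hU.fromSpec := ⟨p, rfl⟩
      rwa [hU.range_fromSpec] at this
  rw [h1]
  refine IsCompact.image ?_ hU.fromSpec.continuous
  refine K582.Retro.isCompact_of_isConstructible ?_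
  exact isConstructible_fibRank_eq Γ(S, U) R.M r

theorem quasiCompact_of_locus {Z : Scheme.{u}} (ι : Z ⟶ S) [IsImmersion ι] {r : ℕ}
    (hr : Set.range ι = {s : S | CohIII.fiberRank f F 0 s = r}) : QuasiCompact ι := by
  rw [quasiCompact_iff_forall_isAffineOpen]
  intro U hU
  rw [ι.isEmbedding.isInducing.isCompact_iff]
  have h1 : ι '' (ι ⁻¹ᵁ U : Set Z) = (U : Set S) ∩ Set.range ι := by
    rw [Set.inter_comm]
    exact Set.image_preimage_eq_range_inter
  rw [h1, hr]
  exact isCompact_level f F hF hfl hU r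

/-- **The locus.** -/
theorem exists_locus (r : ℕ) :
    ∃ (Z : Scheme.{u}) (ι : Z ⟶ S), IsImmersion ι ∧ LocallyOfFinitePresentation ι ∧ QuasiCompact ι ∧
      (∀ (T : Scheme.{u}) (u : T ⟶ S), (∃ u' : T ⟶ Z, u' ≫ ι = u) ↔ UG f F r u) ∧
      Set.range ι = {s : S | CohIII.fiberRank f F 0 s = r} := by
  obtain ⟨Z, ι, hι, hlfp, hZ⟩ := exists_ug_locus f F r
    (fun A j _ => exists_repH0 f F hF hfl (IsPullback.of_hasPullback f j))
  have hr := range_eq f F hF hfl ι hZ
  exact ⟨Z, ι, hι, hlfp, quasiCompact_of_locus f F hF hfl ι hr, hZ, hr⟩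

end

end K87.UBasMain
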